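import Cfsg.Agent.Lib.Solvable.Basic
import Mathlib.GroupTheory.PGroup
import Mathlib.GroupTheory.Sylow
import Cfsg.Agent.Lib.Solvable.Fitting
import Cfsg.Agent.Lib.Solvable.Carter
import Mathlib.Data.Set.Finite.Lemmas

/-! A faithful module in characteristic two with an offender, for a group whose `2`-subgroups are
abelian and act quadratically and with trivial `2`-core, has an involution inverting an element of
order three. -/

set_option autoImplicit false

namespace Cfsg.Agent.SFourOff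

open Cfsg.Agent.SolvBasic Cfsg.Agent.Carter

variable {X : Type*} [Group X] {V : Type*} [CommGroup V] (ρ : X →* MulAut V)

/-- Displacement of `v` under `g`. -/
def dd (g : X) (v : V) : V := v * ρ g v

/-- Fixed points of a subgroup. -/
def Fix (H : Subgroup X) : Subgroup V where
  carrier := {v | ∀ h ∈ H, ρ h v = v}
  one_mem' := fun h _ => map_one (ρ h)
  mul_mem' := fun {u v} hu hv h hh => by rw [map_mul, hu h hh, hv h hh]
  inv_mem' := fun {u} hu h hh => by rw [map_inv, hu h hh]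

lemma mem_Fix {H : Subgroup X} {v : V} : v ∈ Fix ρ H ↔ ∀ h ∈ H, ρ h v = v := Iff.rfl

/-- Elements fixing `v`. -/
def Stab (v : V) : Subgroup X where
  carrier := {g | ρ g v = v}
  one_mem' := by simp
  mul_mem' := fun {g h} hg hh => by
    change ρ (g * h) v = v
    rw [map_mul, MulAut.mul_apply, show ρ h v = v from hh, show ρ g v = v from hg]
  inv_mem' := fun {g} hg => by
    change ρ g⁻¹ v = v
    conv_lhs => rw [← show ρ g v = v from hg]
    rw [← MulAut.mul_apply, ← map_mul, inv_mul_cancel, map_one, MulAut.one_apply]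

/-- The ambient hypotheses. -/
structure Setup : Prop where
  exp : ∀ v : V, v * v = 1
  comm : ∀ R : Subgroup X, IsPGroup 2 R → ∀ x ∈ R, ∀ y ∈ R, x * y = y * x
  quad : ∀ R : Subgroup X, IsPGroup 2 R → ∀ x ∈ R, ∀ y ∈ R, ∀ v : V,
    ρ y (dd ρ x v) = dd ρ x v

/-- An elementary abelian best offender. -/
structure Off (A : Subgroup X) : Prop where
  sq : ∀ a ∈ A, a * a = 1
  best : ∀ B ≤ A, Nat.card B * Nat.card (Fix ρ B) ≤ Nat.card A * Nat.card (Fix ρ A)

omit [CommGroup V] in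
lemma pgroup_of_sq {A : Subgroup X} (h : ∀ a ∈ A, a * a = 1) : IsPGroup 2 A := fun x =>
  ⟨1, Subtype.ext (by rw [pow_one, SubmonoidClass.coe_pow, pow_two]; exact h x x.2)⟩

lemma comm_of_sq {A : Subgroup X} (h : ∀ a ∈ A, a * a = 1) {a b : X} (ha : a ∈ A) (hb : b ∈ A) :
    a * b = b * a := by
  have h1 : ∀ c ∈ A, c⁻¹ = c := fun c hc => inv_eq_of_mul_eq_one_right (h c hc)
  calc a * b = (a * b)⁻¹ := (h1 _ (A.mul_mem ha hb)).symm
    _ = b * a := by rw [mul_inv_rev, h1 a ha, h1 b hb]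

/-- Pairwise commuting subgroups. -/
def Comm' (A B : Subgroup X) : Prop := ∀ a ∈ A, ∀ b ∈ B, a * b = b * a

omit [CommGroup V] in
lemma le_normalizer_of_comm {A B : Subgroup X} (h : Comm' A B) :
    B ≤ Subgroup.normalizer (A : Set X) := fun b hb =>
  Subgroup.centralizer_le_normalizer _ (Subgroup.mem_centralizer_iff.2 fun a ha => h a ha b hb)

variable {ρ}

lemma inv_self (hs : Setup ρ) (v : V) : v⁻¹ = v := inv_eq_of_mul_eq_one_right (hs.exp v)

lemma apply_dd (hs : Setup ρ) (g : X) (v : V) : ρ g v = v * dd ρ g v := by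
  rw [dd, ← mul_assoc, hs.exp, one_mul]

lemma dd_mul_pt (g : X) (u v : V) : dd ρ g (u * v) = dd ρ g u * dd ρ g v := by
  simp only [dd, map_mul]
  exact mul_mul_mul_comm _ _ _ _

lemma dd_mul (hs : Setup ρ) (g h : X) (v : V) (hfix : ρ g (dd ρ h v) = dd ρ h v) :
    dd ρ (g * h) v = dd ρ g v * dd ρ h v := by
  conv_lhs => rw [dd, map_mul, MulAut.mul_apply, apply_dd hs h v, map_mul, hfix]
  rw [← mul_assoc]; rfl

lemma dd_eq_one_iff (hs : Setup ρ) (g : X) (v : V) : dd ρ g v = 1 ↔ ρ g v = v := by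
  rw [dd, mul_eq_one_iff_eq_inv, inv_self hs]
  exact eq_comm

/-- An element of odd order fixing its displacement has none. -/
lemma odd_fix (hs : Setup ρ) {g : X} {m : ℕ} (hm : Odd m) (hg : g ^ m = 1) {v : V}
    (h : ρ g (dd ρ g v) = dd ρ g v) : dd ρ g v = 1 := by
  have hpow : ∀ n : ℕ, ρ (g ^ n) v = v * dd ρ g v ^ n := by
    intro n
    induction n with
    | zero => simp
    | succ n ih => rw [pow_succ', map_mul, MulAut.mul_apply, ih, map_mul, map_pow, h,
        apply_dd hs g v, mul_assoc, ← pow_succ']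
  have h1 := hpow m
  rw [hg, map_one, MulAut.one_apply, left_eq_mul] at h1
  obtain ⟨k, rfl⟩ := hm
  rwa [pow_succ, pow_mul, pow_two, hs.exp, one_pow, one_mul] at h1

variable (A B : Subgroup X)

/-- `C_A(B)`. -/
def cA : Subgroup X := A ⊓ Subgroup.centralizer (B : Set X)

variable (ρ) in
/-- The fixed points of `A` in the module. -/
def XS : Subgroup V := Fix ρ A ⊓ Fix ρ (cA B A)

variable (ρ) in
/-- The fixed points of `⟨A, B⟩`. -/
def ZS : Subgroup V := Fix ρ A ⊓ Fix ρ B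

variable {A B}

omit [CommGroup V] in
lemma cA_comm : Comm' (cA A B) B := fun a ha b hb =>
  ((Subgroup.mem_centralizer_iff.1 ha.2) b hb).symm

lemma ZS_le : ZS ρ A B ≤ XS ρ A B := fun _ hv => ⟨hv.1, fun b hb => hv.2 b hb.1⟩

/-- The key consequence of minimality. -/
def Key (ρ : X →* MulAut V) (A B : Subgroup X) : Prop :=
  ∀ a ∈ A, ∀ w ∈ Fix ρ B, w ∉ ZS ρ A B → dd ρ a w ∈ Fix ρ B → a ∈ Subgroup.centralizer (B : Set X)

variable [Finite X] [Finite V]

lemma card_Y_le (hA : Off ρ A) :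
    Nat.card (XS ρ B A) * Nat.card (cA A B) ≤ Nat.card A * Nat.card (ZS ρ A B) := by
  have h1 : Fix ρ A ⊔ XS ρ B A ≤ Fix ρ (cA A B) :=
    sup_le (fun v hv a ha => hv a ha.1) inf_le_right
  have hn : XS ρ B A ≤ Subgroup.normalizer ((Fix ρ A : Subgroup V) : Set V) := by
    rw [Subgroup.normalizer_eq_top]; exact le_top
  have h2 := card_sup_mul_card_inf hn
  have h3 : Nat.card (Fix ρ A ⊓ XS ρ B A : Subgroup V) ≤ Nat.card (ZS ρ A B) :=
    Subgroup.card_le_of_le fun v hv => ⟨hv.1, hv.2.1⟩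
  have h4 : Nat.card (Fix ρ A ⊔ XS ρ B A : Subgroup V) * Nat.card (cA A B)
      ≤ Nat.card A * Nat.card (Fix ρ A) := by
    rw [mul_comm]
    exact (Nat.mul_le_mul_left _ (Subgroup.card_le_of_le h1)).trans (hA.best _ inf_le_left)
  refine Nat.le_of_mul_le_mul_left ?_ (Nat.card_pos (α := Fix ρ A))
  calc Nat.card (Fix ρ A) * (Nat.card (XS ρ B A) * Nat.card (cA A B))
      = (Nat.card (Fix ρ A ⊔ XS ρ B A : Subgroup V) * Nat.card (cA A B))
          * Nat.card (Fix ρ A ⊓ XS ρ B A : Subgroup V) := by rw [← mul_assoc, ← h2]; ring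
    _ ≤ (Nat.card A * Nat.card (Fix ρ A)) * Nat.card (ZS ρ A B) := Nat.mul_le_mul h4 h3
    _ = _ := by ring

lemma image_spec (hs : Setup ρ) (hA : Off ρ A) (hK : Key ρ A B) {w : V} (hw : w ∈ XS ρ B A)
    (hwZ : w ∉ ZS ρ A B) :
    Nat.card A * Nat.card (ZS ρ A B) ≤ Nat.card (XS ρ A B) * Nat.card (cA A B) ∧
    (Nat.card (XS ρ A B) * Nat.card (cA A B) ≤ Nat.card A * Nat.card (ZS ρ A B) →
      ∀ x ∈ XS ρ A B, ∃ a ∈ A, ∃ z ∈ ZS ρ A B, dd ρ a w * z = x) := by
  have hpA := pgroup_of_sq hA.sq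
  let Ψ : A × ZS ρ A B →* V :=
    { toFun := fun p => dd ρ (p.1 : X) w * p.2
      map_one' := by simp [dd, hs.exp]
      map_mul' := fun p q => by
        change dd ρ ((p.1 : X) * q.1) w * ((p.2 : V) * q.2) = _
        rw [dd_mul hs _ _ _ (hs.quad A hpA _ q.1.2 _ p.1.2 w)]
        exact mul_mul_mul_comm _ _ _ _ }
  have hΨ : ∀ p, Ψ p = dd ρ (p.1 : X) w * p.2 := fun _ => rfl
  have hran : Ψ.range ≤ XS ρ A B := by
    rintro _ ⟨⟨a, z⟩, rfl⟩
    refine (XS ρ A B).mul_mem ⟨fun a' ha' => hs.quad A hpA _ a.2 a' ha' w, fun b hb => ?_⟩ (ZS_le z.2)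
    have hab : (a : X) * b = b * a := Subgroup.mem_centralizer_iff.1 hb.2 _ a.2
    have hbw : ρ b w = w := hw.1 b hb.1
    change ρ b (w * ρ (a : X) w) = w * ρ (a : X) w
    rw [map_mul, ← MulAut.mul_apply, ← map_mul, ← hab, map_mul, MulAut.mul_apply, hbw]
  have hker : ∀ p, p ∈ Ψ.ker ↔ (p.1 : X) ∈ cA A B ∧ p.2 = 1 := by
    rintro ⟨a, z⟩
    rw [MonoidHom.mem_ker, hΨ]
    constructor
    · intro h
      have h1 : dd ρ (a : X) w = (z : V) := by rw [mul_eq_one_iff_eq_inv.1 h, inv_self hs]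
      have h2 := hK a a.2 w hw.1 hwZ (h1 ▸ z.2.2)
      refine ⟨⟨a.2, h2⟩, Subtype.ext ?_⟩
      have h3 : dd ρ (a : X) w = 1 := (dd_eq_one_iff hs _ _).2 (hw.2 _ ⟨a.2, h2⟩)
      exact h1.symm.trans h3
    · rintro ⟨h, rfl⟩
      rw [(dd_eq_one_iff hs _ _).2 (hw.2 _ h)]
      exact mul_one _
  have hck : Nat.card Ψ.ker = Nat.card (cA A B) := Nat.card_congr
    { toFun := fun p => ⟨(p.1.1 : X), ((hker p.1).1 p.2).1⟩
      invFun := fun a => ⟨(⟨a, a.2.1⟩, 1), (hker _).2 ⟨a.2, rfl⟩⟩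
      left_inv := fun p => Subtype.ext (Prod.ext rfl ((hker p.1).1 p.2).2.symm)
      right_inv := fun a => rfl }
  have hcard : Nat.card Ψ.range * Nat.card (cA A B) = Nat.card A * Nat.card (ZS ρ A B) := by
    rw [← Nat.card_prod A, ← Ψ.ker.card_mul_index, hck, Subgroup.index_ker, mul_comm (Nat.card (cA A B))]
  refine ⟨hcard ▸ Nat.mul_le_mul_right _ (Subgroup.card_le_of_le hran), fun h x hx => ?_⟩
  have h1 : Nat.card (XS ρ A B) ≤ Nat.card Ψ.range :=
    Nat.le_of_mul_le_mul_right (hcard ▸ h) Nat.card_pos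
  rw [← Subgroup.eq_of_le_of_card_ge hran h1] at hx
  obtain ⟨⟨a, z⟩, rfl⟩ := hx
  exact ⟨a, a.2, z, z.2, rfl⟩

lemma exists_pow_three (hs : Setup ρ) {a b : X} (ha : a * a = 1) (hb : b * b = 1) {w x z : V}
    (haw : ρ a w = w * x) (hax : ρ a x = x) (hbw : ρ b w = w) (hbx : ρ b x = x * (w * z))
    (haz : ρ a z = z) (hbz : ρ b z = z) (hx : x ≠ 1) :
    ∃ a y : X, a * a = 1 ∧ y ≠ 1 ∧ y ^ 3 = 1 ∧ a * y * a = y⁻¹ := by
  obtain ⟨p, hp⟩ : ∃ p, p = a * b := ⟨_, rfl⟩
  have h1 : ρ p w = w * x := by rw [hp, map_mul, MulAut.mul_apply, hbw, haw]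
  have h2 : ρ p x = w * z := by
    rw [hp, map_mul, MulAut.mul_apply, hbx, map_mul, map_mul, hax, haw, haz]
    calc x * (w * x * z) = w * z * (x * x) := by ac_rfl
      _ = w * z := by rw [hs.exp, mul_one]
  have h3 : ρ p z = z := by rw [hp, map_mul, MulAut.mul_apply, hbz, haz]
  have h4 : p ^ 3 ∈ Stab ρ w := by
    change ρ (p ^ 3) w = w
    rw [show p ^ 3 = p * (p * p) by rw [pow_succ', pow_two], map_mul, MulAut.mul_apply, map_mul,
      MulAut.mul_apply, h1, map_mul, h1, h2, map_mul, map_mul, h1, h2, map_mul, h1, h3]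
    calc w * x * (w * z) * (w * x * z) = w * (w * w) * (x * x) * (z * z) := by ac_rfl
      _ = w := by rw [hs.exp, hs.exp, hs.exp, mul_one, mul_one, mul_one]
  have h5 : 3 ∣ orderOf p := by
    by_contra h
    obtain ⟨m, hm⟩ := exists_pow_eq_self_of_coprime
      ((Nat.Prime.coprime_iff_not_dvd Nat.prime_three).2 h) (x := p)
    have h6 : p ∈ Stab ρ w := hm ▸ (Stab ρ w).pow_mem h4 m
    rw [show p ∈ Stab ρ w ↔ ρ p w = w from Iff.rfl, h1, mul_eq_left] at h6
    exact hx h6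
  have ha' : a⁻¹ = a := inv_eq_of_mul_eq_one_right ha
  have hb' : b⁻¹ = b := inv_eq_of_mul_eq_one_right hb
  have ho : orderOf (p ^ (orderOf p / 3)) = 3 := orderOf_pow_orderOf_div (orderOf_pos p).ne' h5
  refine ⟨a, p ^ (orderOf p / 3), ha, fun h => ?_, ?_, ?_⟩
  · rw [h, orderOf_one] at ho; omega
  · conv_lhs => arg 2; rw [← ho]
    exact pow_orderOf_eq_one _
  · have h7 : a * p * a⁻¹ = p⁻¹ := by rw [hp, mul_inv_rev, ha', hb', ← mul_assoc, ha, one_mul]
    have h8 := congrArg (fun t => t ^ (orderOf p / 3)) h7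
    simp only [conj_pow, inv_pow] at h8
    rwa [ha'] at h8

/-- The contradiction when both pieces are trivial. -/
lemma comm_of_trivial (hs : Setup ρ) (hinj : Function.Injective ρ) (hA : Off ρ A) (hB : Off ρ B)
    (hX : XS ρ A B ≤ ZS ρ A B) (hY : XS ρ B A ≤ ZS ρ A B) : Comm' A B := by
  intro a ha b hb
  set V2 := Fix ρ (cA A B) ⊓ Fix ρ (cA B A) with hV2
  -- `a` and `b` centralise the series `V2 > Z > 1`
  have hmove : ∀ (P Q : Subgroup X), Off ρ P → XS ρ P Q ≤ ZS ρ A B → ∀ g ∈ P,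
      ∀ v : V, v ∈ Fix ρ (cA Q P) → dd ρ g v ∈ ZS ρ A B := by
    intro P Q hP hPQ g hg v hv
    refine hPQ ⟨fun h hh => hs.quad P (pgroup_of_sq hP.sq) g hg h hh v, fun c hc => ?_⟩
    have hgc : g * c = c * g := Subgroup.mem_centralizer_iff.1 hc.2 g hg
    change ρ c (v * ρ g v) = v * ρ g v
    rw [map_mul, ← MulAut.mul_apply, ← map_mul, ← hgc, map_mul, MulAut.mul_apply, hv c hc]
  have hfa : ∀ v ∈ V2, dd ρ a v ∈ ZS ρ A B := fun v hv => hmove A B hA hX a ha v hv.2
  have hfb : ∀ v ∈ V2, dd ρ b v ∈ ZS ρ A B := fun v hv => hmove B A hB hY b hb v hv.1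
  have haZ : ∀ z ∈ ZS ρ A B, ρ a z = z := fun z hz => hz.1 a ha
  have hbZ : ∀ z ∈ ZS ρ A B, ρ b z = z := fun z hz => hz.2 b hb
  set g := a * b with hg
  have hgZ : ∀ z ∈ ZS ρ A B, ρ g z = z := fun z hz => by
    rw [hg, map_mul, MulAut.mul_apply, hbZ z hz, haZ z hz]
  have hg2 : ∀ v ∈ V2, ρ (g ^ 2) v = v := by
    intro v hv
    have hd : dd ρ g v = dd ρ a v * dd ρ b v := dd_mul hs a b v (haZ _ (hfb v hv))
    have hdZ : dd ρ g v ∈ ZS ρ A B := hd ▸ (ZS ρ A B).mul_mem (hfa v hv) (hfb v hv)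
    rw [pow_two, map_mul, MulAut.mul_apply, apply_dd hs g v, map_mul, hgZ _ hdZ, apply_dd hs g v,
      mul_assoc, hs.exp, mul_one]
  obtain ⟨k, m, hm, hn⟩ := Nat.exists_eq_pow_mul_and_not_dvd (orderOf_pos g).ne' 2 (by norm_num)
  have hmo : Odd m := Nat.odd_iff.2 (by omega)
  set y := g ^ (2 ^ k) with hy
  have hym : y ^ m = 1 := by rw [hy, ← pow_mul, ← hn, pow_orderOf_eq_one]
  have hyfix : ∀ v ∈ V2, ρ y v = v := by
    intro v hv
    obtain ⟨j, hj⟩ := hmo
    have h1 : y = (g ^ 2) ^ (2 ^ k * (j + 1)) := by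
      rw [← pow_mul, show 2 * (2 ^ k * (j + 1)) = 2 ^ k * 1 + 2 ^ k * m by rw [hj]; ring, pow_add,
        mul_one, ← hn, pow_orderOf_eq_one, mul_one]
    have h2 : g ^ 2 ∈ Stab ρ v := hg2 v hv
    exact (h1 ▸ (Stab ρ v).pow_mem h2 _ : y ∈ Stab ρ v)
  have hy1 : y = 1 := by
    apply hinj
    rw [map_one]
    ext v
    rw [MulAut.one_apply, ← dd_eq_one_iff hs]
    refine odd_fix hs hmo hym (hyfix _ ?_)
    -- commuting elements of the two centralisers
    have hK : IsPGroup 2 (cA A B ⊔ cA B A : Subgroup X) :=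
      (pgroup_of_sq (A := cA A B) fun c hc => hA.sq c hc.1).to_sup_of_normal_left'
        (pgroup_of_sq (A := cA B A) fun c hc => hB.sq c hc.1)
        (le_normalizer_of_comm fun c hc d hd => cA_comm c hc d hd.1)
    have hkey : ∀ c : X, c ∈ cA A B ∨ c ∈ cA B A → ρ c (dd ρ y v) = dd ρ y v := by
      intro c hc
      have hcK : c ∈ cA A B ⊔ cA B A :=
        hc.elim (fun h => Subgroup.mem_sup_left h) (fun h => Subgroup.mem_sup_right h)
      have hca : c * a = a * c := by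
        rcases hc with h | h
        · exact comm_of_sq hA.sq h.1 ha
        · exact (Subgroup.mem_centralizer_iff.1 h.2 a ha).symm
      have hcb : c * b = b * c := by
        rcases hc with h | h
        · exact (Subgroup.mem_centralizer_iff.1 h.2 b hb).symm
        · exact comm_of_sq hB.sq h.1 hb
      have hcy : c * y = y * c := by
        rw [hy]; exact ((Commute.mul_right hca hcb).pow_right _).eq
      have hd : dd ρ c v ∈ V2 := ⟨fun e he => hs.quad _ hK c hcK e (Subgroup.mem_sup_left he) v,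
        fun e he => hs.quad _ hK c hcK e (Subgroup.mem_sup_right he) v⟩
      have h3 : ρ c v = v * dd ρ c v := apply_dd hs c v
      change ρ c (v * ρ y v) = v * ρ y v
      rw [map_mul, ← MulAut.mul_apply, ← map_mul, hcy, map_mul, MulAut.mul_apply, h3, map_mul,
        hyfix _ hd]
      calc v * dd ρ c v * (ρ y v * dd ρ c v) = v * ρ y v * (dd ρ c v * dd ρ c v) := by ac_rfl
        _ = v * ρ y v := by rw [hs.exp, mul_one]
    exact ⟨fun c hc => hkey c (Or.inl hc), fun c hc => hkey c (Or.inr hc)⟩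
  -- so `⟨a, b⟩` is a `2`-group
  have hpg : IsPGroup 2 (Subgroup.zpowers g) := IsPGroup.of_card (n := k) (by
    rw [Nat.card_zpowers]
    exact Nat.dvd_antisymm (orderOf_dvd_of_pow_eq_one hy1) ⟨m, hn⟩)
  have haa : a * a = 1 := hA.sq a ha
  have hbb : b * b = 1 := hB.sq b hb
  have hpa : IsPGroup 2 (Subgroup.zpowers a) :=
    (pgroup_of_sq hA.sq).to_le (Subgroup.zpowers_le.2 ha)
  have hna : Subgroup.zpowers a ≤ Subgroup.normalizer (Subgroup.zpowers g : Set X) := by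
    refine Subgroup.zpowers_le.2 (le_normalizer_of_conj_mem ?_)
    rintro _ ⟨i, rfl⟩
    refine ⟨-i, ?_⟩
    have h7 : a * g * a⁻¹ = g⁻¹ := by
      rw [hg, mul_inv_rev, inv_eq_of_mul_eq_one_right haa, inv_eq_of_mul_eq_one_right hbb,
        ← mul_assoc, haa, one_mul]
    change g ^ (-i) = a * g ^ i * a⁻¹
    rw [← conj_zpow, h7, inv_zpow, zpow_neg]
  have h8 := hs.comm _ (hpg.to_sup_of_normal_left' hpa hna) a
    (Subgroup.mem_sup_right (Subgroup.mem_zpowers a)) g
    (Subgroup.mem_sup_left (Subgroup.mem_zpowers g))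
  rw [hg, ← mul_assoc, haa, one_mul] at h8
  have h9 := congrArg (a * ·) h8
  simp only [← mul_assoc, haa, one_mul] at h9
  exact h9

omit [Finite V] in
lemma key_of_minimal (hs : Setup ρ) (hA : Off ρ A) (hB : Off ρ B)
    (hmin : ∀ a ∈ A, Nat.card (B ⊔ B.map (MulAut.conj a).toMonoidHom : Subgroup X) <
      Nat.card (A ⊔ B : Subgroup X) → Comm' B (B.map (MulAut.conj a).toMonoidHom)) : Key ρ A B := by
  intro a ha w hw hwZ hd
  set B' := B.map (MulAut.conj a).toMonoidHom with hB'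
  set u := ρ a w with hu
  have haa := hA.sq a ha
  have hainv : a⁻¹ = a := inv_eq_of_mul_eq_one_right haa
  have huB : u ∈ Fix ρ B := by rw [hu, apply_dd hs a w]; exact (Fix ρ B).mul_mem hw hd
  have h1 : B ⊔ B' ≤ Stab ρ u := by
    refine sup_le (fun b hb => huB b hb) ?_
    rintro _ ⟨b, hb, rfl⟩
    change ρ (a * b * a⁻¹) u = u
    rw [hu, ← MulAut.mul_apply, ← map_mul, inv_mul_cancel_right, map_mul, MulAut.mul_apply, hw b hb]
  have haL : a ∈ A ⊔ B := Subgroup.mem_sup_left ha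
  have h2 : B ⊔ B' ≤ A ⊔ B := by
    refine sup_le le_sup_right ?_
    rintro _ ⟨b, hb, rfl⟩
    exact (A ⊔ B).mul_mem ((A ⊔ B).mul_mem haL (Subgroup.mem_sup_right hb)) ((A ⊔ B).inv_mem haL)
  have hlt : Nat.card (B ⊔ B' : Subgroup X) < Nat.card (A ⊔ B : Subgroup X) := by
    refine lt_of_le_of_ne (Subgroup.card_le_of_le h2) fun h => hwZ ?_
    have h3 := Subgroup.eq_of_le_of_card_ge h2 h.ge
    have hL : ∀ l ∈ A ⊔ B, ρ l u = u := fun l hl => h1 (h3 ▸ hl)
    have hwu : w = u := by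
      have := hL a haL
      rwa [hu, ← MulAut.mul_apply, ← map_mul, haa, map_one, MulAut.one_apply] at this
    exact ⟨fun l hl => hwu ▸ hL l (Subgroup.mem_sup_left hl), hw⟩
  have hB'2 : IsPGroup 2 B' := (pgroup_of_sq hB.sq).map _
  have hR0 : IsPGroup 2 (B ⊔ B' : Subgroup X) := (pgroup_of_sq hB.sq).to_sup_of_normal_left' hB'2
    (le_normalizer_of_comm (hmin a ha hlt))
  have haR : a ∈ Subgroup.normalizer ((B ⊔ B' : Subgroup X) : Set X) := by
    refine le_normalizer_of_conj_mem fun x hx => ?_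
    have h4 := Subgroup.mem_map_of_mem (MulAut.conj a).toMonoidHom hx
    rw [Subgroup.map_sup, hB', Subgroup.map_map] at h4
    have h5 : B.map ((MulAut.conj a).toMonoidHom.comp (MulAut.conj a).toMonoidHom) = B := by
      have : (MulAut.conj a).toMonoidHom.comp (MulAut.conj a).toMonoidHom = MonoidHom.id X := by
        ext x
        change a * (a * x * a⁻¹) * a⁻¹ = x
        rw [hainv]
        calc a * (a * x * a) * a = (a * a) * x * (a * a) := by simp only [mul_assoc]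
          _ = x := by rw [haa, one_mul, mul_one]
      rw [this, Subgroup.map_id]
    rw [h5, sup_comm] at h4
    exact h4
  have hpz : IsPGroup 2 (Subgroup.zpowers a) :=
    (pgroup_of_sq hA.sq).to_le (Subgroup.zpowers_le.2 ha)
  refine Subgroup.mem_centralizer_iff.2 fun b hb => ?_
  exact hs.comm _ (hR0.to_sup_of_normal_left' hpz (Subgroup.zpowers_le.2 haR)) b
    (Subgroup.mem_sup_left (Subgroup.mem_sup_left hb)) a
    (Subgroup.mem_sup_right (Subgroup.mem_zpowers a))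

lemma Off.conj (hA : Off ρ A) (g : X) : Off ρ (A.map (MulAut.conj g).toMonoidHom) := by
  constructor
  · rintro _ ⟨a, ha, rfl⟩
    rw [← map_mul, hA.sq a ha, map_one]
  · intro B' hB'
    have hfix : ∀ C : Subgroup X, Fix ρ (C.map (MulAut.conj g).toMonoidHom) =
        (Fix ρ C).map (ρ g).toMonoidHom := by
      intro C
      ext v
      rw [Subgroup.mem_map_equiv, mem_Fix, mem_Fix]
      constructor
      · intro h c hc
        have h1 := h (g * c * g⁻¹) ⟨c, hc, rfl⟩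
        apply (ρ g).injective
        rw [MulEquiv.apply_symm_apply]
        rwa [map_mul, map_mul, MulAut.mul_apply, MulAut.mul_apply, map_inv] at h1
      · rintro h _ ⟨c, hc, rfl⟩
        change ρ (g * c * g⁻¹) v = v
        rw [map_mul, map_mul, MulAut.mul_apply, MulAut.mul_apply, map_inv]
        change ρ g (ρ c ((ρ g).symm v)) = v
        rw [h c hc, MulEquiv.apply_symm_apply]
    have h2 : B' = (B'.comap (MulAut.conj g).toMonoidHom).map (MulAut.conj g).toMonoidHom :=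
      (Subgroup.map_comap_eq_self_of_surjective (MulAut.conj g).surjective B').symm
    have h3 : B'.comap (MulAut.conj g).toMonoidHom ≤ A := by
      intro x hx
      obtain ⟨y, hy, hyx⟩ := hB' hx
      exact (MulAut.conj g).injective hyx ▸ hy
    obtain ⟨C, hC, hCA⟩ : ∃ C, B' = C.map (MulAut.conj g).toMonoidHom ∧ C ≤ A := ⟨_, h2, h3⟩
    have hc1 : ∀ C : Subgroup X, Nat.card (C.map (MulAut.conj g).toMonoidHom) = Nat.card C :=
      fun C => Subgroup.card_map_of_injective (MulAut.conj g).injective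
    have hc2 : ∀ W : Subgroup V, Nat.card (W.map (ρ g).toMonoidHom) = Nat.card W :=
      fun W => Subgroup.card_map_of_injective (ρ g).injective
    rw [hC, hfix, hfix, hc1, hc1, hc2, hc2]
    exact hA.best _ hCA

lemma inverted_of_pair (hs : Setup ρ) (hinj : Function.Injective ρ) (hA : Off ρ A) (hB : Off ρ B)
    (hnc : ¬ Comm' A B) (hKA : Key ρ A B) (hKB : Key ρ B A) :
    ∃ a y : X, a * a = 1 ∧ y ≠ 1 ∧ y ^ 3 = 1 ∧ a * y * a = y⁻¹ := by
  have hZ : ZS ρ B A = ZS ρ A B := inf_comm _ _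
  have hstep : ∀ P Q : Subgroup X, Off ρ P → Key ρ P Q → ¬ Comm' P Q → ∀ w ∈ XS ρ Q P,
      w ∉ ZS ρ P Q → ¬ XS ρ P Q ≤ ZS ρ P Q := by
    intro P Q hP hKP hPQ w hw hwZ hle
    refine hPQ fun p hp q hq => ?_
    have h1 := (image_spec hs hP hKP hw hwZ).1.trans
      (Nat.mul_le_mul_right _ (Subgroup.card_le_of_le hle))
    rw [mul_comm, Nat.mul_le_mul_left_iff Nat.card_pos] at h1
    have h2 : cA P Q = P := Subgroup.eq_of_le_of_card_ge inf_le_left h1
    exact cA_comm p (h2.symm ▸ hp) q hq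
  have hncB : ¬ Comm' B A := fun h => hnc fun a ha b hb => (h b hb a ha).symm
  obtain ⟨w, hw, hwZ⟩ : ∃ w ∈ XS ρ B A, w ∉ ZS ρ A B := by
    by_contra hcon
    push Not at hcon
    refine hnc (comm_of_trivial hs hinj hA hB ?_ hcon)
    intro x hx
    by_contra hxZ
    have := hstep B A hB hKB hncB x hx (hZ.symm ▸ hxZ)
    exact this (hZ.symm ▸ hcon)
  obtain ⟨x₀, hx₀, hx₀Z⟩ : ∃ x ∈ XS ρ A B, x ∉ ZS ρ A B :=
    SetLike.not_le_iff_exists.1 (hstep A B hA hKA hnc w hw hwZ)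
  have hA1 := image_spec hs hA hKA hw hwZ
  have hB1 := image_spec hs hB hKB hx₀ (hZ.symm ▸ hx₀Z)
  have hAY := card_Y_le (B := B) hA
  have hBY := card_Y_le (B := A) hB
  rw [hZ] at hB1 hBY
  have hA2 : Nat.card (XS ρ A B) * Nat.card (cA A B) ≤ Nat.card A * Nat.card (ZS ρ A B) := by
    refine Nat.le_of_mul_le_mul_right ?_ (Nat.card_pos (α := cA B A))
    calc Nat.card (XS ρ A B) * Nat.card (cA A B) * Nat.card (cA B A)
        = Nat.card (XS ρ A B) * Nat.card (cA B A) * Nat.card (cA A B) := by ring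
      _ ≤ Nat.card B * Nat.card (ZS ρ A B) * Nat.card (cA A B) := Nat.mul_le_mul_right _ hBY
      _ ≤ Nat.card (XS ρ B A) * Nat.card (cA B A) * Nat.card (cA A B) :=
          Nat.mul_le_mul_right _ hB1.1
      _ = Nat.card (XS ρ B A) * Nat.card (cA A B) * Nat.card (cA B A) := by ring
      _ ≤ _ := Nat.mul_le_mul_right _ hAY
  obtain ⟨a, ha, z₀, hz₀, hazx⟩ := hA1.2 hA2 x₀ hx₀
  set x := dd ρ a w with hx
  have hxA : x ∈ XS ρ A B := by
    have : x = x₀ * z₀ := by rw [← hazx, mul_assoc, hs.exp, mul_one]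
    rw [this]
    exact (XS ρ A B).mul_mem hx₀ (ZS_le hz₀)
  have hxZ : x ∉ ZS ρ A B := fun h => hx₀Z (hazx ▸ (ZS ρ A B).mul_mem h hz₀)
  have hB2 := image_spec hs hB hKB hxA (hZ.symm ▸ hxZ)
  rw [hZ] at hB2
  have hB3 : Nat.card (XS ρ B A) * Nat.card (cA B A) ≤ Nat.card B * Nat.card (ZS ρ A B) := by
    refine Nat.le_of_mul_le_mul_right ?_ (Nat.card_pos (α := cA A B))
    calc Nat.card (XS ρ B A) * Nat.card (cA B A) * Nat.card (cA A B)
        = Nat.card (XS ρ B A) * Nat.card (cA A B) * Nat.card (cA B A) := by ring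
      _ ≤ Nat.card A * Nat.card (ZS ρ A B) * Nat.card (cA B A) := Nat.mul_le_mul_right _ hAY
      _ ≤ Nat.card (XS ρ A B) * Nat.card (cA A B) * Nat.card (cA B A) :=
          Nat.mul_le_mul_right _ hA1.1
      _ = Nat.card (XS ρ A B) * Nat.card (cA B A) * Nat.card (cA A B) := by ring
      _ ≤ _ := Nat.mul_le_mul_right _ hBY
  obtain ⟨b, hb, z, hz, hbzw⟩ := hB2.2 hB3 w hw
  have hdb : dd ρ b x = w * z := by rw [← hbzw, mul_assoc, hs.exp, mul_one]
  refine exists_pow_three hs (hA.sq a ha) (hB.sq b hb) (apply_dd hs a w) (hxA.1 a ha) (hw.1 b hb)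
    (by rw [apply_dd hs b x, hdb]) (hz.1 a ha) (hz.2 b hb) fun h => hxZ ?_
  change x ∈ ZS ρ A B
  rw [show x = 1 from h]
  exact one_mem _

omit A B in
/-- Main statement. -/
theorem exists_inverted_three (hs : Setup ρ) (hinj : Function.Injective ρ)
    (hO : Cfsg.pCore 2 X = ⊥) (A₀ : Subgroup X) (hA₀ : Off ρ A₀) (hne : A₀ ≠ ⊥) :
    ∃ a y : X, a * a = 1 ∧ y ≠ 1 ∧ y ^ 3 = 1 ∧ a * y * a = y⁻¹ := by
  classical
  let cj : X → Subgroup X := fun g => A₀.map (MulAut.conj g).toMonoidHom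
  have hex : ∃ p : X × X, ¬ Comm' (cj p.1) (cj p.2) := by
    by_contra hcon
    push Not at hcon
    set S : Set X := ⋃ g : X, (cj g : Set X) with hS
    have hSc : ∀ x ∈ S, ∀ y ∈ S, x * y = y * x := by
      intro x hx y hy
      obtain ⟨g, hg⟩ := Set.mem_iUnion.1 hx
      obtain ⟨h, hh⟩ := Set.mem_iUnion.1 hy
      exact hcon (g, h) x hg y hh
    have hN : (Subgroup.closure S).Normal := by
      refine ⟨fun x hx g => ?_⟩
      have h1 : (Subgroup.closure S).map (MulAut.conj g).toMonoidHom ≤ Subgroup.closure S := by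
        rw [MonoidHom.map_closure, Subgroup.closure_le]
        rintro _ ⟨s, hs', rfl⟩
        obtain ⟨h, a, ha, rfl⟩ := Set.mem_iUnion.1 hs'
        refine Subgroup.subset_closure (Set.mem_iUnion.2 ⟨g * h, a, ha, ?_⟩)
        change g * h * a * (g * h)⁻¹ = g * (h * a * h⁻¹) * g⁻¹
        group
      exact h1 ⟨x, hx, rfl⟩
    have h2 : ∀ x ∈ Subgroup.closure S, x * x = 1 ∧ ∀ y ∈ S, x * y = y * x := by
      intro x hx
      induction hx using Subgroup.closure_induction with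
      | mem x hx =>
        obtain ⟨g, hg⟩ := Set.mem_iUnion.1 hx
        exact ⟨(hA₀.conj g).sq x hg, fun y hy => hSc x (Set.mem_iUnion.2 ⟨g, hg⟩) y hy⟩
      | one => exact ⟨one_mul 1, fun y _ => by rw [one_mul, mul_one]⟩
      | mul x y hx hy ihx ihy =>
        refine ⟨?_, fun z hz => ((Commute.mul_left (ihx.2 z hz) (ihy.2 z hz)) : Commute _ _).eq⟩
        have hc : Commute y x := by
          refine (Subgroup.mem_centralizer_iff.1 (?_ : x ∈ Subgroup.centralizer (Subgroup.closure S : Set X)) y hy)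
          rw [Subgroup.centralizer_closure, Subgroup.mem_centralizer_iff]
          exact fun s hs' => (ihx.2 s hs').symm
        rw [hc.mul_mul_mul_comm, ihx.1, ihy.1, one_mul]
      | inv x hx ih =>
        exact ⟨by rw [← mul_inv_rev, ih.1, inv_one], fun z hz => ((Commute.inv_left (ih.2 z hz)) : Commute _ _).eq⟩
    refine hne (le_bot_iff.1 (hO ▸ fun a ha => FittingCores.le_pCore hN
      (pgroup_of_sq fun x hx => (h2 x hx).1) (Subgroup.subset_closure (Set.mem_iUnion.2 ⟨1, ?_⟩))))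
    exact ⟨a, ha, by simp⟩
  obtain ⟨⟨g, h⟩, hgh, hmin⟩ := Set.exists_min_image
    {p : X × X | ¬ Comm' (cj p.1) (cj p.2)}
    (fun p => Nat.card (cj p.1 ⊔ cj p.2 : Subgroup X)) (Set.toFinite _) hex
  have hcomp : ∀ a k : X, (cj k).map (MulAut.conj a).toMonoidHom = cj (a * k) := by
    intro a k
    simp only [cj, Subgroup.map_map]
    congr 1
    ext x
    simp [mul_assoc]
  have hK : ∀ u v : X, Nat.card (cj u ⊔ cj v : Subgroup X) = Nat.card (cj g ⊔ cj h : Subgroup X) →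
      Key ρ (cj u) (cj v) := by
    intro u v huv
    refine key_of_minimal hs (hA₀.conj u) (hA₀.conj v) fun a ha hlt => ?_
    rw [hcomp] at hlt ⊢
    by_contra hc
    exact absurd (hmin (v, a * v) hc) (not_le.2 (huv ▸ hlt))
  exact inverted_of_pair hs hinj (hA₀.conj g) (hA₀.conj h) hgh (hK g h rfl) (hK h g (by rw [sup_comm]))

end Cfsg.Agent.SFourOff
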