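import Cfsg.Prelude.Def_LocalEven
import Cfsg.Agent.Lib.SFour.Offender
import Cfsg.Agent.Lib.Solvable.SFourFree
import Cfsg.Agent.Lib.Techniques.PConstrained

/-! `2`-constrained groups with no section `S₄` and Sylow `2`-subgroup of class at most two. -/

set_option autoImplicit false
open scoped Pointwise commutatorElement

universe u

namespace Cfsg.Agent.SFour2

open Cfsg.Agent.SolvBasic Cfsg.Agent.Carter

variable {G : Type u} [Group G] [Finite G]

/-- The class bound for every Sylow `2`-subgroup, elementwise. -/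
lemma class_two {S : Sylow 2 G}
    (hcl : ⁅⁅(S : Subgroup G), (S : Subgroup G)⁆, (S : Subgroup G)⁆ = ⊥) (P : Sylow 2 G) {x y z : G}
    (hx : x ∈ (P : Subgroup G)) (hy : y ∈ (P : Subgroup G)) (hz : z ∈ (P : Subgroup G)) :
    ⁅⁅x, y⁆, z⁆ = 1 := by
  have : Fact (Nat.Prime 2) := ⟨Nat.prime_two⟩
  obtain ⟨g, rfl⟩ := MulAction.exists_smul_eq G S P
  rw [Sylow.coe_subgroup_smul, mem_conjSmul] at hx hy hz
  have h := Subgroup.commutator_mem_commutator (Subgroup.commutator_mem_commutator hx hy) hz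
  rw [hcl, Subgroup.mem_bot] at h
  have h' := congrArg (MulAut.conj g) h
  rw [map_commutatorElement, map_commutatorElement, map_one] at h'
  simpa [mul_assoc] using h'

set_option maxHeartbeats 1000000 in
/-- The `FF`-step. -/
theorem involves_of_offender {S : Sylow 2 G}
    (hcl : ⁅⁅(S : Subgroup G), (S : Subgroup G)⁆, (S : Subgroup G)⁆ = ⊥)
    {V A : Subgroup G} [hVn : V.Normal] (hV : Cfsg.IsElementaryAbelian 2 V)
    (hA : Cfsg.Agent.Thompson.IsMaxEAIn 2 (S : Subgroup G) A)
    (hAC : ¬ A ≤ Subgroup.centralizer (V : Set G))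
    (hO : Cfsg.pCore 2 (G ⧸ Subgroup.centralizer (V : Set G)) = ⊥) :
    Cfsg.Involves (Equiv.Perm (Fin 4)) G := by
  classical
  have : Fact (Nat.Prime 2) := ⟨Nat.prime_two⟩
  set C := Subgroup.centralizer (V : Set G) with hC
  have hcommV : ∀ x ∈ V, ∀ y ∈ V, x * y = y * x := fun x hx y hy =>
    Cfsg.Agent.Thompson.commute_of_isElementaryAbelian hV hx hy
  have hV2 : IsPGroup 2 V := SFourOff.pgroup_of_sq fun v hv => by rw [← pow_two]; exact hV.2 v hv
  have hVP : ∀ P : Sylow 2 G, V ≤ (P : Subgroup G) := fun P =>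
    (Cfsg.Agent.FittingCores.le_pCore hVn hV2).trans (Cfsg.Agent.FittingCores.pCore_le_sylow P)
  letI : CommGroup V := { mul_comm := fun x z => Subtype.ext (hcommV x x.2 z z.2) }
  set ρ₀ : G →* MulAut V := MulAut.conjNormal with hρ₀
  have hker : ∀ g : G, g ∈ C ↔ ρ₀ g = 1 := by
    intro g
    rw [hC, Subgroup.mem_centralizer_iff]
    constructor
    · intro h
      refine MulEquiv.ext fun v => Subtype.ext ?_
      rw [hρ₀, MulAut.conjNormal_apply, MulAut.one_apply, ← h v v.2, mul_inv_cancel_right]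
    · intro h v hv
      have h1 := congrArg (fun τ : MulAut V => ((τ ⟨v, hv⟩ : V) : G)) h
      simp only [hρ₀, MulAut.conjNormal_apply, MulAut.one_apply] at h1
      exact (mul_inv_eq_iff_eq_mul.1 h1).symm
  set f := QuotientGroup.mk' C with hf
  let ρ : G ⧸ C →* MulAut V := QuotientGroup.lift C ρ₀ fun g hg => (hker g).1 hg
  have hρ : ∀ g, ρ (f g) = ρ₀ g := fun g => rfl
  have hρv : ∀ g (v : V), ((ρ (f g) v : V) : G) = g * v * g⁻¹ := fun g v => by
    rw [hρ, hρ₀]; exact MulAut.conjNormal_apply g v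
  have hinj : Function.Injective ρ := by
    rw [← MonoidHom.ker_eq_bot_iff, Subgroup.eq_bot_iff_forall]
    intro q hq
    obtain ⟨g, rfl⟩ := QuotientGroup.mk'_surjective C q
    exact (QuotientGroup.eq_one_iff g).2 ((hker g).2 hq)
  have hexp : ∀ v : V, v * v = 1 := fun v => Subtype.ext (by
    rw [Subgroup.coe_mul, ← pow_two]; exact hV.2 v v.2)
  -- two elements of a `2`-subgroup of the quotient lift into a common Sylow subgroup
  have hlift : ∀ R : Subgroup (G ⧸ C), IsPGroup 2 R → ∀ x ∈ R, ∀ y ∈ R, ∃ P : Sylow 2 G,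
      ∃ x' ∈ (P : Subgroup G), ∃ y' ∈ (P : Subgroup G), f x' = x ∧ f y' = y := by
    intro R hR x hx y hy
    obtain ⟨Q, hQ⟩ := hR.exists_le_sylow
    obtain ⟨q, hq⟩ := MulAction.exists_smul_eq (G ⧸ C)
      (S.mapSurjective (f := f) (QuotientGroup.mk'_surjective C)) Q
    obtain ⟨g, rfl⟩ := QuotientGroup.mk'_surjective C q
    have hQ' : ∀ t ∈ (Q : Subgroup (G ⧸ C)), ∃ t' ∈ ((g • S : Sylow 2 G) : Subgroup G), f t' = t := by
      intro t ht
      rw [← hq, Sylow.coe_subgroup_smul, mem_conjSmul] at ht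
      obtain ⟨s, hs, hst⟩ := ht
      refine ⟨g * s * g⁻¹, ?_, ?_⟩
      · rw [Sylow.coe_subgroup_smul, mem_conjSmul]
        simp only [mul_assoc, inv_mul_cancel_left, inv_mul_cancel, mul_one]
        exact hs
      · change f s = (f g)⁻¹ * t * f g at hst
        rw [map_mul, map_mul, hst, map_inv]
        group
    obtain ⟨x', hx', rfl⟩ := hQ' x (hQ hx)
    obtain ⟨y', hy', rfl⟩ := hQ' y (hQ hy)
    exact ⟨g • S, x', hx', y', hy', rfl, rfl⟩
  have hs : SFourOff.Setup ρ := by
    refine ⟨hexp, fun R hR x hx y hy => ?_, fun R hR x hx y hy v => ?_⟩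
    · obtain ⟨P, x', hx', y', hy', rfl, rfl⟩ := hlift R hR x hx y hy
      rw [← commutatorElement_eq_one_iff_mul_comm, ← map_commutatorElement]
      refine (QuotientGroup.eq_one_iff _).2 ?_
      rw [hC, Subgroup.mem_centralizer_iff]
      intro v hv
      exact (commutatorElement_eq_one_iff_mul_comm.1 (class_two hcl P hx' hy' (hVP P hv))).symm
    · obtain ⟨P, x', hx', y', hy', rfl, rfl⟩ := hlift R hR x hx y hy
      refine Subtype.ext ?_
      have h2 : (SFourOff.dd ρ (f x') v : V) = ρ (f x') v * v⁻¹ := by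
        rw [SFourOff.dd, mul_comm, inv_eq_of_mul_eq_one_right (hexp v)]
      have h3 : ((SFourOff.dd ρ (f x') v : V) : G) = ⁅x', (v : G)⁆ := by
        rw [h2, Subgroup.coe_mul, hρv, Subgroup.coe_inv, commutatorElement_def]
      rw [hρv, h3, mul_inv_eq_iff_eq_mul]
      exact (commutatorElement_eq_one_iff_mul_comm.1 (class_two hcl P hx' (hVP P v.2) hy')).symm
  -- the image of `A`
  set A₁ := A.map f with hA₁
  have hne : A₁ ≠ ⊥ := fun h => hAC fun a ha => by
    have h1 : f a ∈ A₁ := Subgroup.mem_map_of_mem f ha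
    rw [h, Subgroup.mem_bot] at h1
    exact (QuotientGroup.eq_one_iff a).1 h1
  have hoff : SFourOff.Off ρ A₁ := by
    refine ⟨?_, fun B hB => ?_⟩
    · rintro _ ⟨a, ha, rfl⟩
      rw [← map_mul, ← pow_two, hA.2.1.2 a ha, map_one]
    · set B₀ := A ⊓ B.comap f with hB₀
      have hBmap : B₀.map f = B := by
        refine le_antisymm (Subgroup.map_le_iff_le_comap.2 inf_le_right) fun b hb => ?_
        obtain ⟨a, ha, rfl⟩ := hB hb
        exact ⟨a, ⟨ha, hb⟩, rfl⟩
      have hcard : ∀ D : Subgroup G, D ≤ A → A ⊓ C ≤ D →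
          Nat.card D = Nat.card (D.map f) * Nat.card (A ⊓ C : Subgroup G) := by
        intro D hD hCD
        set g := f.comp D.subtype with hg
        have h1 := g.ker.card_mul_index
        have h2 : g.range = D.map f := by rw [hg, MonoidHom.range_comp, Subgroup.range_subtype]
        have h3 : g.ker = (A ⊓ C).subgroupOf D := by
          ext ⟨d, hd⟩
          rw [MonoidHom.mem_ker, Subgroup.mem_subgroupOf]
          exact ⟨fun h => ⟨hD hd, (QuotientGroup.eq_one_iff d).1 h⟩,
            fun h => (QuotientGroup.eq_one_iff d).2 h.2⟩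
        rw [Subgroup.index_ker, h2, h3,
          Nat.card_congr (Subgroup.subgroupOfEquivOfLe hCD).toEquiv] at h1
        rw [← h1, mul_comm]
      have hfix : ∀ D : Subgroup G, SFourOff.Fix ρ (D.map f) =
          (V ⊓ Subgroup.centralizer (D : Set G)).subgroupOf V := by
        intro D
        ext v
        rw [SFourOff.mem_Fix, Subgroup.mem_subgroupOf]
        constructor
        · intro h
          refine ⟨v.2, Subgroup.mem_centralizer_iff.2 fun d hd => ?_⟩
          have h1 := congrArg Subtype.val (h (f d) ⟨d, hd, rfl⟩)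
          rw [hρv, mul_inv_eq_iff_eq_mul] at h1
          exact h1
        · rintro h _ ⟨d, hd, rfl⟩
          refine Subtype.ext ?_
          rw [hρv, Subgroup.mem_centralizer_iff.1 h.2 d hd, mul_inv_cancel_right]
      have hcf : ∀ D : Subgroup G, Nat.card (SFourOff.Fix ρ (D.map f)) =
          Nat.card (V ⊓ Subgroup.centralizer (D : Set G) : Subgroup G) := fun D => by
        rw [hfix, Nat.card_congr (Subgroup.subgroupOfEquivOfLe inf_le_left).toEquiv]
      -- the maximality of `A`
      set W := V ⊓ Subgroup.centralizer (B₀ : Set G) with hW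
      have hWn : B₀ ≤ Subgroup.normalizer (W : Set G) := fun b hb =>
        Subgroup.centralizer_le_normalizer _ (Subgroup.mem_centralizer_iff.2 fun w hw =>
          (Subgroup.mem_centralizer_iff.1 hw.2 b hb).symm)
      have hel : Cfsg.IsElementaryAbelian 2 (W ⊔ B₀ : Subgroup G) := by
        have hmem : ∀ x ∈ W ⊔ B₀, ∃ v ∈ W, ∃ b ∈ B₀, x = v * b := fun x hx => by
          obtain ⟨v, hv, b, hb, rfl⟩ := (mem_sup_iff_of_le_normalizer hWn).1 hx
          exact ⟨v, hv, b, hb, rfl⟩
        have hva : ∀ v ∈ W, ∀ b ∈ B₀, Commute v b := fun v hv b hb =>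
          (Subgroup.mem_centralizer_iff.1 hv.2 b hb).symm
        refine ⟨.of_setLike_mul_comm fun x hx y hy => ?_, fun x hx => ?_⟩
        · obtain ⟨v, hv, b, hb, rfl⟩ := hmem x hx
          obtain ⟨w, hw, c, hc, rfl⟩ := hmem y hy
          exact ((Commute.mul_left (Commute.mul_right (hcommV v hv.1 w hw.1) (hva v hv c hc))
            (Commute.mul_right (hva w hw b hb).symm
              (Cfsg.Agent.Thompson.commute_of_isElementaryAbelian hA.2.1 hb.1 hc.1))) : Commute _ _)
        · obtain ⟨v, hv, b, hb, rfl⟩ := hmem x hx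
          rw [(hva v hv b hb).mul_pow, hV.2 v hv.1, hA.2.1.2 b hb.1, one_mul]
      have h2 := hA.2.2 _ (sup_le (inf_le_left.trans (hVP S)) (inf_le_left.trans hA.1)) hel
      have h3 := card_sup_mul_card_inf hWn
      have h5 : Nat.card (W ⊓ B₀ : Subgroup G) ≤
          Nat.card (V ⊓ Subgroup.centralizer (A : Set G) : Subgroup G) :=
        Subgroup.card_le_of_le fun x hx => ⟨hx.1.1, Subgroup.mem_centralizer_iff.2 fun a ha =>
          Cfsg.Agent.Thompson.commute_of_isElementaryAbelian hA.2.1 ha hx.2.1⟩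
      have hAC0 : A ⊓ C ≤ B₀ := fun x hx => ⟨hx.1, by
        change f x ∈ B
        rw [show f x = 1 from (QuotientGroup.eq_one_iff x).2 hx.2]
        exact one_mem _⟩
      have h6 : Nat.card B₀ * Nat.card W ≤
          Nat.card A * Nat.card (V ⊓ Subgroup.centralizer (A : Set G) : Subgroup G) := by
        rw [mul_comm, ← h3]; exact Nat.mul_le_mul h2 h5
      rw [hcard B₀ inf_le_left hAC0, hcard A le_rfl inf_le_left] at h6
      rw [← hBmap, hA₁, hcf, hcf]
      refine Nat.le_of_mul_le_mul_left ?_ (Nat.card_pos (α := (A ⊓ C : Subgroup G)))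
      linarith
  obtain ⟨a', y', ha2, hy1, hy3, hay⟩ := SFourOff.exists_inverted_three hs hinj hO A₁ hoff hne
  obtain ⟨a, rfl⟩ := QuotientGroup.mk'_surjective C a'
  obtain ⟨y, rfl⟩ := QuotientGroup.mk'_surjective C y'
  set α := ρ (f a) with hα
  set σ := ρ (f y) with hσ
  have hαα : ∀ v, α (α v) = v := fun v => by
    rw [hα, ← MulAut.mul_apply, ← map_mul, ha2, map_one, MulAut.one_apply]
  have hσ3 : ∀ v, σ (σ (σ v)) = v := fun v => by
    rw [hσ, ← MulAut.mul_apply, ← MulAut.mul_apply, ← map_mul, ← map_mul,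
      show f y * f y * f y = f y ^ 3 by rw [pow_succ, pow_two], hy3, map_one, MulAut.one_apply]
  have hασ : ∀ v, α (σ v) = σ (σ (α v)) := fun v => by
    have h1 : f a * f y = f y * f y * f a := by
      have h2 : f y * f y = (f y)⁻¹ := by
        refine eq_inv_of_mul_eq_one_left ?_
        rw [← pow_two, ← pow_succ]; exact hy3
      rw [h2, ← hay, mul_assoc, ha2, mul_one]
    rw [hα, hσ, ← MulAut.mul_apply, ← map_mul, h1, map_mul, map_mul, MulAut.mul_apply,
      MulAut.mul_apply]
  let δ : V →* V :=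
    { toFun := fun v => v * σ v
      map_one' := by simp
      map_mul' := fun v w => by rw [map_mul]; exact mul_mul_mul_comm _ _ _ _ }
  have hδ : ∀ v, δ v = v * σ v := fun v => rfl
  have hσne : δ.range ≠ ⊥ := by
    intro h
    refine hy1 (hinj ?_)
    rw [map_one]
    refine MulEquiv.ext fun v => ?_
    have h1 : δ v ∈ δ.range := ⟨v, rfl⟩
    rw [h, Subgroup.mem_bot, hδ, mul_eq_one_iff_eq_inv, inv_eq_of_mul_eq_one_right (hexp _)] at h1
    exact h1.symm
  obtain ⟨d, hd, hd1⟩ : ∃ d ∈ δ.range, d ≠ 1 := by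
    by_contra hcon
    push Not at hcon
    exact hσne ((Subgroup.eq_bot_iff_forall _).2 hcon)
  -- a point of the range fixed by `α`
  obtain ⟨w, hw, hw1, hwα⟩ : ∃ w ∈ δ.range, w ≠ 1 ∧ α w = w := by
    by_cases h : α d = d
    · exact ⟨d, hd, hd1, h⟩
    · obtain ⟨v, rfl⟩ := hd
      refine ⟨δ v * α (δ v), ?_, fun h1 => h ?_, ?_⟩
      · refine δ.range.mul_mem ⟨v, rfl⟩ ⟨σ (σ (α v)), ?_⟩
        rw [hδ, hδ, map_mul, hσ3, hασ, mul_comm]
      · rw [mul_eq_one_iff_eq_inv, inv_eq_of_mul_eq_one_right (hexp _)] at h1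
        exact h1.symm
      · rw [map_mul, hαα, mul_comm]
  have hsum : w * σ w = σ (σ w) := by
    obtain ⟨v, rfl⟩ := hw
    rw [hδ, map_mul, map_mul, hσ3]
    calc v * σ v * (σ v * σ (σ v)) = v * σ (σ v) * (σ v * σ v) := by ac_rfl
      _ = σ (σ v) * v := by rw [hexp, mul_one, mul_comm]
  have hne' : σ w ≠ w := by
    intro h
    rw [h, h, hexp] at hsum
    exact hw1 hsum.symm
  have hσw : σ w ≠ 1 := fun h => hw1 (σ.injective (h.trans (map_one σ).symm))
  let U : Subgroup V :=
    { carrier := {1, w, σ w, σ (σ w)}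
      one_mem' := Set.mem_insert _ _
      inv_mem' := fun {u} hu => by rw [inv_eq_of_mul_eq_one_right (hexp u)]; exact hu
      mul_mem' := fun {u v} hu hv => by
        simp only [Set.mem_insert_iff, Set.mem_singleton_iff] at hu hv ⊢
        have e1 : w * σ (σ w) = σ w := by rw [← hsum, ← mul_assoc, hexp, one_mul]
        have e2 : σ w * σ (σ w) = w := by rw [← hsum, mul_left_comm, hexp, mul_one]
        rcases hu with hu | hu | hu | hu <;> rcases hv with hv | hv | hv | hv <;>
          simp [hu, hv, hexp, hsum, e1, e2, mul_comm (σ w) w, mul_comm (σ (σ w)) w,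
            mul_comm (σ (σ w)) (σ w)] }
  have hUc : Nat.card U = 4 := by
    change Nat.card ({1, w, σ w, σ (σ w)} : Set V) = 4
    rw [Nat.card_coe_set_eq]
    have n1 : σ (σ w) ≠ w := fun h => hne' (by
      have h' := congrArg σ h
      rw [hσ3] at h'
      exact h'.symm)
    have n2 : σ (σ w) ≠ σ w := fun h => hne' (σ.injective h)
    have n3 : σ (σ w) ≠ 1 := fun h => hσw (σ.injective (h.trans (map_one σ).symm))
    rw [Set.ncard_insert_of_notMem (by simp [Ne.symm hw1, Ne.symm hσw, Ne.symm n3]) (Set.toFinite _),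
      Set.ncard_insert_of_notMem (by simp [Ne.symm hne', Ne.symm n1]) (Set.toFinite _),
      Set.ncard_pair (Ne.symm n2)]
  set U' := U.map V.subtype with hU'
  have hinvariant : ∀ g : G, (∀ v ∈ U, ρ (f g) v ∈ U) → g ∈ Subgroup.normalizer (U' : Set G) := by
    intro g hg
    refine le_normalizer_of_conj_mem ?_
    rintro _ ⟨v, hv, rfl⟩
    exact ⟨_, hg v hv, hρv g v⟩
  have hUmem : ∀ v : V, v ∈ U ↔ v = 1 ∨ v = w ∨ v = σ w ∨ v = σ (σ w) := fun v => Iff.rfl
  have hyU : y ∈ Subgroup.normalizer (U' : Set G) := hinvariant y fun v hv => by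
    rw [hUmem] at hv ⊢
    rcases hv with hv | hv | hv | hv <;> simp [hv, ← hσ, hσ3]
  have haU : a ∈ Subgroup.normalizer (U' : Set G) := hinvariant a fun v hv => by
    rw [hUmem] at hv ⊢
    rcases hv with hv | hv | hv | hv <;> simp [hv, ← hα, hασ, hwα, hσ3]
  have hCU : C ≤ Subgroup.centralizer (U' : Set G) :=
    Subgroup.centralizer_le (Subgroup.map_subtype_le U)
  refine SFourFree.involves_of_four (U := U') ?_ ?_ haU hyU ?_ ?_ ?_ ?_
  · rw [hU', Subgroup.card_map_of_injective V.subtype_injective, hUc]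
  · intro u hu
    exact hV.2 u (Subgroup.map_subtype_le U hu)
  · intro hyc
    refine hne' (Subtype.ext ?_)
    rw [hσ, hρv, ← Subgroup.mem_centralizer_iff.1 hyc (w : G)
      (Subgroup.mem_map_of_mem V.subtype ((hUmem w).2 (Or.inr (Or.inl rfl))))]
    exact mul_inv_cancel_right _ _
  · refine hCU ((QuotientGroup.eq_one_iff _).1 ?_)
    change f (y ^ 3) = 1
    rw [map_pow, hy3]
  · refine hCU ((QuotientGroup.eq_one_iff _).1 ?_)
    change f (a ^ 2) = 1
    rw [map_pow, pow_two, ha2]
  · refine hCU ((QuotientGroup.eq_one_iff _).1 ?_)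
    change f (a * y * a⁻¹ * y) = 1
    rw [map_mul, map_mul, map_mul, map_inv, inv_eq_of_mul_eq_one_right ha2, hay, inv_mul_cancel]

/-- With `S'` central and characteristic two, the Sylow subgroup is normal. -/
lemma sylow_normal_of_central
    (hCO : Subgroup.centralizer (Cfsg.pCore 2 G : Set G) ≤ Cfsg.pCore 2 G) (S : Sylow 2 G)
    (hcl : ⁅(S : Subgroup G), (S : Subgroup G)⁆ ≤ Subgroup.center G) : (S : Subgroup G).Normal := by
  set O := Cfsg.pCore 2 G with hO
  have hOn : O.Normal := Cfsg.Agent.FittingCores.pCore_normal 2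
  have hOS : O ≤ (S : Subgroup G) := Cfsg.Agent.FittingCores.pCore_le_sylow S
  let K : Subgroup G :=
    { carrier := {g | ∀ x ∈ O, ⁅g, x⁆ ∈ Subgroup.center G}
      one_mem' := fun x _ => by rw [commutatorElement_one_left]; exact one_mem _
      mul_mem' := fun {g h} hg hh x hx => by
        have h1 : ⁅g * h, x⁆ = g * ⁅h, x⁆ * g⁻¹ * ⁅g, x⁆ := by
          simp only [commutatorElement_def]; group
        rw [h1, Subgroup.mem_center_iff.1 (hh x hx) g, mul_inv_cancel_right]
        exact mul_mem (hh x hx) (hg x hx)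
      inv_mem' := fun {g} hg x hx => by
        have h1 : ⁅g⁻¹, x⁆ = g⁻¹ * ⁅g, x⁆⁻¹ * g := by simp only [commutatorElement_def]; group
        rw [h1, Subgroup.mem_center_iff.1 (inv_mem (hg x hx)) g⁻¹, inv_mul_cancel_right]
        exact inv_mem (hg x hx) }
  have hKn : K.Normal := ⟨fun k hk g x hx => by
    have h1 : ⁅g * k * g⁻¹, x⁆ = g * ⁅k, g⁻¹ * x * g⁆ * g⁻¹ := by
      simp only [commutatorElement_def]; group
    have h2 : g⁻¹ * x * g ∈ O := by simpa using hOn.conj_mem x hx g⁻¹
    rw [h1, Subgroup.mem_center_iff.1 (hk _ h2) g, mul_inv_cancel_right]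
    exact hk _ h2⟩
  have hKp : IsPGroup 2 K := by
    intro k
    obtain ⟨e, m, hm, hn⟩ := Nat.exists_eq_pow_mul_and_not_dvd (orderOf_pos (k : G)).ne' 2 (by norm_num)
    set t := (k : G) ^ (2 ^ e) with ht
    have htm : t ^ m = 1 := by rw [ht, ← pow_mul, ← hn, pow_orderOf_eq_one]
    have hto : (orderOf t).Coprime 2 :=
      (((Nat.Prime.coprime_iff_not_dvd Nat.prime_two).2 hm).symm).coprime_dvd_left
        (orderOf_dvd_of_pow_eq_one htm)
    have htO : t ∈ O := by
      refine hCO (Subgroup.mem_centralizer_iff.2 fun x hx => ?_)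
      have htK : t ∈ K := K.pow_mem k.2 _
      set c := ⁅t, x⁆ with hc
      have hcz : c ∈ Subgroup.center G := htK x hx
      have hcO : c ∈ O := by
        rw [hc, commutatorElement_def]
        exact O.mul_mem (hOn.conj_mem x hx t) (O.inv_mem hx)
      have hpow : ∀ n : ℕ, t ^ n * x * (t ^ n)⁻¹ = c ^ n * x := by
        intro n
        induction n with
        | zero => simp
        | succ n ih =>
          calc t ^ (n + 1) * x * (t ^ (n + 1))⁻¹ = t * (t ^ n * x * (t ^ n)⁻¹) * t⁻¹ := by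
                rw [pow_succ']; group
            _ = t * c ^ n * x * t⁻¹ := by rw [ih]; group
            _ = c ^ n * (t * x * t⁻¹) := by
                rw [Subgroup.mem_center_iff.1 ((Subgroup.center G).pow_mem hcz n) t]; group
            _ = c ^ n * (c * x) := by rw [hc, commutatorElement_def]; group
            _ = c ^ (n + 1) * x := by rw [pow_succ, mul_assoc]
      have h1 := hpow m
      rw [htm, one_mul, inv_one, mul_one, right_eq_mul] at h1
      obtain ⟨j, hj⟩ := Cfsg.Agent.FittingCores.pCore_isPGroup 2 (⟨c, hcO⟩ : O)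
      have h2 : orderOf c = 1 := Nat.eq_one_of_dvd_coprimes
        ((((Nat.Prime.coprime_iff_not_dvd Nat.prime_two).2 hm).symm).pow_right j)
        (orderOf_dvd_of_pow_eq_one h1) (orderOf_dvd_of_pow_eq_one (congrArg Subtype.val hj))
      exact (commutatorElement_eq_one_iff_mul_comm.1 (orderOf_eq_one_iff.1 h2)).symm
    obtain ⟨j, hj⟩ := Cfsg.Agent.FittingCores.pCore_isPGroup 2 (⟨t, htO⟩ : O)
    have h3 : orderOf t = 1 := Nat.eq_one_of_dvd_coprimes (hto.pow_right j) dvd_rfl
      (orderOf_dvd_of_pow_eq_one (congrArg Subtype.val hj))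
    exact ⟨e, Subtype.ext (by
      rw [SubmonoidClass.coe_pow, ← ht, OneMemClass.coe_one]; exact orderOf_eq_one_iff.1 h3)⟩
  have hSK : (S : Subgroup G) ≤ K := fun s hs x hx =>
    hcl (Subgroup.commutator_mem_commutator hs (hOS hx))
  have hSO : (S : Subgroup G) = O := le_antisymm (hSK.trans (Cfsg.Agent.FittingCores.le_pCore hKn hKp)) hOS
  rw [hSO]
  exact hOn

set_option maxHeartbeats 1000000 in
theorem thompson_normal_aux : ∀ n : ℕ, ∀ {G : Type u} [Group G] [Finite G],
    Nat.card G = n → ¬ Cfsg.Involves (Equiv.Perm (Fin 4)) G →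
    Subgroup.centralizer (Cfsg.pCore 2 G : Set G) ≤ Cfsg.pCore 2 G →
    ∀ S : Sylow 2 G, (⁅⁅(S : Subgroup G), (S : Subgroup G)⁆, (S : Subgroup G)⁆ = ⊥) →
      (Cfsg.thompsonSubgroupOf 2 (S : Subgroup G)).Normal := by
  intro n
  induction n using Nat.strong_induction_on with
  | _ n ih =>
    intro G _ _ hn hS4 hCO S hcl
    have : Fact (Nat.Prime 2) := ⟨Nat.prime_two⟩
    set O := Cfsg.pCore 2 G with hOdef
    have hOS : O ≤ (S : Subgroup G) := Cfsg.Agent.FittingCores.pCore_le_sylow S
    have hOn : O.Normal := Cfsg.Agent.FittingCores.pCore_normal 2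
    set Z := ((Subgroup.center (S : Subgroup G))).map (S : Subgroup G).subtype with hZ
    have hZS : Z ≤ (S : Subgroup G) := Subgroup.map_subtype_le _
    have hZc : ∀ z ∈ Z, ∀ s ∈ (S : Subgroup G), s * z = z * s := by
      rintro _ ⟨z, hz, rfl⟩ s hs
      exact congrArg Subtype.val (Subgroup.mem_center_iff.1 hz ⟨s, hs⟩)
    have hZO : Z ≤ O := fun z hz => hCO (Subgroup.mem_centralizer_iff.2 fun x hx =>
      hZc z hz x (hOS hx))
    set V₀ := Subgroup.normalClosure (Z : Set G) with hV₀
    have hV₀n : V₀.Normal := Subgroup.normalClosure_normal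
    have hV₀O : V₀ ≤ O := Subgroup.normalClosure_le_normal hZO
    have hV₀c : V₀ ≤ Subgroup.centralizer (O : Set G) := by
      refine Subgroup.normalClosure_le_normal fun z hz => Subgroup.mem_centralizer_iff.2 fun x hx =>
        hZc z hz x (hOS hx)
    have hV₀ab : ∀ x ∈ V₀, ∀ y ∈ V₀, x * y = y * x := fun x hx y hy =>
      Subgroup.mem_centralizer_iff.1 (hV₀c hy) x (hV₀O hx)
    let V : Subgroup G :=
      { carrier := {x | x ∈ V₀ ∧ x ^ 2 = 1}
        one_mem' := ⟨V₀.one_mem, one_pow 2⟩
        mul_mem' := fun {x y} hx hy => ⟨V₀.mul_mem hx.1 hy.1, by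
          rw [(show Commute x y from hV₀ab x hx.1 y hy.1).mul_pow, hx.2, hy.2, one_mul]⟩
        inv_mem' := fun {x} hx => ⟨V₀.inv_mem hx.1, by rw [inv_pow, hx.2, inv_one]⟩ }
    have hVn : V.Normal := ⟨fun x hx g => ⟨hV₀n.conj_mem x hx.1 g, by
      rw [conj_pow, hx.2, mul_one, mul_inv_cancel]⟩⟩
    have hVe : Cfsg.IsElementaryAbelian 2 V :=
      ⟨.of_setLike_mul_comm fun x hx y hy => hV₀ab x hx.1 y hy.1, fun x hx => hx.2⟩
    set C := Subgroup.centralizer (V : Set G) with hC
    -- odd elements of `C` centralize `V₀`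
    have hodd : ∀ x ∈ C, (orderOf x).Coprime 2 → x ∈ Subgroup.centralizer (V₀ : Set G) := by
      intro x hx hxo
      have : IsMulCommutative V₀ := .of_setLike_mul_comm hV₀ab
      obtain ⟨k, hk⟩ := ((Cfsg.Agent.FittingCores.pCore_isPGroup 2).to_le hV₀O).exists_card_eq
      refine Cfsg.Agent.CoprimeAct.le_centralizer_of_fix_prime (A := Subgroup.zpowers x)
        (by rw [Subgroup.normalizer_eq_top]; exact le_top)
        (by rw [Nat.card_zpowers, hk]; exact hxo.pow_right k) ?_ (Subgroup.mem_zpowers x)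
      intro v hv hvp a ha
      have hvV : v ∈ V := by
        refine ⟨hv, ?_⟩
        have h2 : orderOf v = 2 := (Nat.prime_dvd_prime_iff_eq hvp Nat.prime_two).1
          (hvp.dvd_of_dvd_pow (hk ▸ V₀.orderOf_dvd_natCard hv))
        rw [← h2, pow_orderOf_eq_one]
      obtain ⟨i, rfl⟩ := ha
      exact ((show Commute x v from (Subgroup.mem_centralizer_iff.1 hx v hvV).symm).zpow_left i).eq
    have hZV₀ : Z ≤ V₀ := Subgroup.subset_normalClosure
    by_cases hCt : C = ⊤
    · -- `Z(S)` is central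
      have hcen : ∀ z ∈ Z, Subgroup.centralizer ({z} : Set G) = ⊤ := by
        intro z hz
        refine Cfsg.Agent.FittingCores.eq_top_of_forall_sylow_le fun q hq => ?_
        by_cases hq2 : q = 2
        · subst hq2
          exact ⟨S, fun s hs => Subgroup.mem_centralizer_singleton_iff.2 (hZc z hz s hs)⟩
        · have := Fact.mk hq
          obtain ⟨Q⟩ : Nonempty (Sylow q G) := inferInstance
          refine ⟨Q, fun x hx => Subgroup.mem_centralizer_singleton_iff.2 ?_⟩
          obtain ⟨k, hk⟩ := Q.isPGroup' ⟨x, hx⟩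
          have hxo : (orderOf x).Coprime 2 :=
            (((Nat.coprime_primes hq Nat.prime_two).2 hq2).pow_left k).coprime_dvd_left
              (orderOf_dvd_of_pow_eq_one (congrArg Subtype.val hk))
          exact (Subgroup.mem_centralizer_iff.1 (hodd x (hCt ▸ Subgroup.mem_top x) hxo) z (hZV₀ hz)).symm
      have hSS : ⁅(S : Subgroup G), (S : Subgroup G)⁆ ≤ Subgroup.center G := by
        intro z hz
        have hzZ : z ∈ Z := by
          have hzS : z ∈ (S : Subgroup G) := Subgroup.commutator_le_self _ hz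
          refine ⟨⟨z, hzS⟩, Subgroup.mem_center_iff.2 fun s => Subtype.ext ?_, rfl⟩
          have h1 : ⁅z, (s : G)⁆ = 1 := by
            rw [← Subgroup.mem_bot, ← hcl]; exact Subgroup.commutator_mem_commutator hz s.2
          exact (commutatorElement_eq_one_iff_mul_comm.1 h1).symm
        rw [Subgroup.mem_center_iff]
        exact fun g => Subgroup.mem_centralizer_singleton_iff.1 (hcen z hzZ ▸ Subgroup.mem_top g)
      have := sylow_normal_of_central hCO S hSS
      exact Subgroup.normalizer_eq_top_iff.1 (top_le_iff.1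
        ((Subgroup.normalizer_eq_top_iff.2 this).ge.trans
          (Cfsg.Agent.Thompson.normalizer_le_normalizer_thompsonSubgroupOf 2 _)))
    -- `O₂(G ⧸ C) = 1`
    have hCn : C.Normal := inferInstance
    have hX : Cfsg.pCore 2 (G ⧸ C) = ⊥ := by
      set f := QuotientGroup.mk' C with hf
      set R := (Cfsg.pCore 2 (G ⧸ C)).comap f with hR
      have hRn : R.Normal := (Cfsg.Agent.FittingCores.pCore_normal 2).comap f
      have hRodd : ∀ x ∈ R, (orderOf x).Coprime 2 → x ∈ C := by
        intro x hx hxo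
        obtain ⟨k, hk⟩ := Cfsg.Agent.FittingCores.pCore_isPGroup 2 (⟨f x, hx⟩ : Cfsg.pCore 2 (G ⧸ C))
        refine mem_of_pow_mem (hxo.pow_right k) ((QuotientGroup.eq_one_iff _).1 ?_)
        exact (map_pow f x _).trans (congrArg Subtype.val hk)
      have hRZ : R ≤ Subgroup.centralizer (Z : Set G) := by
        rw [← Subgroup.subgroupOf_eq_top]
        refine Cfsg.Agent.FittingCores.eq_top_of_forall_sylow_le fun q hq => ?_
        have := Fact.mk hq
        by_cases hq2 : q = 2
        · subst hq2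
          have hc : Nat.card (((S : Subgroup G) ⊓ R).subgroupOf R) = 2 ^ (Nat.card R).factorization 2 := by
            have h1 := (((S : Subgroup G) ⊓ R).subgroupOf R).card_mul_index
            obtain ⟨k, hk⟩ := (S.isPGroup'.to_le (inf_le_left : (S : Subgroup G) ⊓ R ≤ S)).exists_card_eq
            rw [Nat.card_congr (Subgroup.subgroupOfEquivOfLe (inf_le_right : (S : Subgroup G) ⊓ R ≤ R)).toEquiv,
              hk] at h1 ⊢
            have hni : ¬ 2 ∣ (((S : Subgroup G) ⊓ R).subgroupOf R).index := fun hd =>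
              S.not_dvd_index (hd.trans (by
                change ((S : Subgroup G) ⊓ R).relIndex R ∣ _
                rw [Subgroup.inf_relIndex_right]
                exact Cfsg.Agent.SolvStruct.relIndex_dvd_index_of_normal_right (S : Subgroup G) R))
            rw [← h1, Nat.factorization_mul (pow_ne_zero _ two_ne_zero) Subgroup.index_ne_zero_of_finite,
              Finsupp.add_apply, Nat.Prime.factorization_pow Nat.prime_two, Finsupp.single_eq_same,
              Nat.factorization_eq_zero_of_not_dvd hni, add_zero]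
          refine ⟨Sylow.ofCard _ hc, fun x hx => ?_⟩
          rw [Sylow.coe_ofCard] at hx
          exact Subgroup.mem_subgroupOf.2 (Subgroup.mem_centralizer_iff.2 fun z hz =>
            (hZc z hz _ (Subgroup.mem_subgroupOf.1 hx).1).symm)
        · obtain ⟨Q⟩ : Nonempty (Sylow q R) := inferInstance
          refine ⟨Q, fun x hx => Subgroup.mem_subgroupOf.2 ?_⟩
          obtain ⟨k, hk⟩ := Q.isPGroup' ⟨x, hx⟩
          have hxo : (orderOf (x : G)).Coprime 2 :=
            (((Nat.coprime_primes hq Nat.prime_two).2 hq2).pow_left k).coprime_dvd_left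
              (orderOf_dvd_of_pow_eq_one (congrArg (fun t : (Q : Subgroup R) => ((t : R) : G)) hk))
          exact Subgroup.centralizer_le hZV₀ (hodd x (hRodd x x.2 hxo) hxo)
      have hRV : R ≤ C := by
        have h2 : V₀ ≤ Subgroup.centralizer (R : Set G) :=
          Subgroup.normalClosure_le_normal (Subgroup.le_centralizer_iff.1 hRZ)
        exact (Subgroup.le_centralizer_iff.1 h2).trans
          (Subgroup.centralizer_le fun x (hx : x ∈ V) => hx.1)
      rw [← Subgroup.map_comap_eq_self_of_surjective (QuotientGroup.mk'_surjective C)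
        (Cfsg.pCore 2 (G ⧸ C)), Subgroup.map_eq_bot_iff, QuotientGroup.ker_mk']
      exact hRV
    set J := Cfsg.thompsonSubgroupOf 2 (S : Subgroup G) with hJ
    by_cases hJC : J ≤ C
    swap
    · obtain ⟨A, hA, hAC⟩ : ∃ A, Cfsg.Agent.Thompson.IsMaxEAIn 2 (S : Subgroup G) A ∧ ¬ A ≤ C := by
        by_contra hcon
        push Not at hcon
        refine hJC ?_
        rw [hJ, Cfsg.Agent.Thompson.thompsonSubgroupOf_eq]
        exact sSup_le hcon
      exact absurd (involves_of_offender hcl hVe hA hAC hX) hS4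
    -- induction in `C`
    set S₁ := (S : Subgroup G) ⊓ C with hS₁
    have hcard₁ : Nat.card (S₁.subgroupOf C) = 2 ^ (Nat.card C).factorization 2 := by
      have h1 := (S₁.subgroupOf C).card_mul_index
      obtain ⟨k, hk⟩ := (S.isPGroup'.to_le (inf_le_left : S₁ ≤ S)).exists_card_eq
      rw [Nat.card_congr (Subgroup.subgroupOfEquivOfLe (inf_le_right : S₁ ≤ C)).toEquiv, hk] at h1 ⊢
      have hni : ¬ 2 ∣ (S₁.subgroupOf C).index := fun hd => S.not_dvd_index (hd.trans (by
        change S₁.relIndex C ∣ _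
        rw [hS₁, Subgroup.inf_relIndex_right]
        exact Cfsg.Agent.SolvStruct.relIndex_dvd_index_of_normal_right (S : Subgroup G) C))
      rw [← h1, Nat.factorization_mul (pow_ne_zero _ two_ne_zero) Subgroup.index_ne_zero_of_finite,
        Finsupp.add_apply, Nat.Prime.factorization_pow Nat.prime_two, Finsupp.single_eq_same,
        Nat.factorization_eq_zero_of_not_dvd hni, add_zero]
    let P : Sylow 2 C := Sylow.ofCard _ hcard₁
    have hPm : (P : Subgroup C).map C.subtype = S₁ := by
      rw [Sylow.coe_ofCard]; exact Subgroup.map_subgroupOf_eq_of_le inf_le_right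
    have hlt : Nat.card C < n := hn ▸ (Subgroup.card_le_card_group C).lt_of_ne fun e =>
      hCt (Subgroup.card_eq_iff_eq_top C |>.1 e)
    have hO₁ : Subgroup.centralizer (Cfsg.pCore 2 C : Set C) ≤ Cfsg.pCore 2 C :=
      Cfsg.Agent.CharP.isCharP_of_isSubnormal hCO hCn.isSubnormal
    have hcl₁ : ⁅⁅(P : Subgroup C), (P : Subgroup C)⁆, (P : Subgroup C)⁆ = ⊥ := by
      rw [← Subgroup.map_eq_bot_iff_of_injective _ C.subtype_injective, Subgroup.map_commutator,
        Subgroup.map_commutator, hPm, ← le_bot_iff, ← hcl]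
      exact Subgroup.commutator_mono (Subgroup.commutator_mono inf_le_left inf_le_left) inf_le_left
    have hJn := ih _ hlt rfl (fun h => hS4 (SFourFree.involves_mono C.subtype C.subtype_injective h)) hO₁ P hcl₁
    have hJ₁ : (Cfsg.thompsonSubgroupOf 2 (P : Subgroup C)).map C.subtype = J := by
      rw [← Cfsg.Agent.Thompson.thompsonSubgroupOf_map_of_injective _ _ C.subtype_injective, hPm, hJ,
        Cfsg.Agent.Thompson.thompsonSubgroupOf_eq_of_le (le_inf (Cfsg.Agent.Thompson.thompsonSubgroupOf_le 2 _) hJC)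
          inf_le_left]
    have hCJ : C ≤ Subgroup.normalizer (J : Set G) := by
      intro c hc
      refine le_normalizer_of_conj_mem fun x hx => ?_
      rw [← hJ₁] at hx ⊢
      obtain ⟨x, hx, rfl⟩ := hx
      exact ⟨⟨c, hc⟩ * x * ⟨c, hc⟩⁻¹, hJn.conj_mem x hx _, rfl⟩
    rw [← Subgroup.normalizer_eq_top_iff, eq_top_iff]
    intro g _
    have hg1 : MulAut.conj g • S₁ ≤ C := fun w hw => by
      rw [mem_conjSmul] at hw
      simpa [mul_assoc] using hCn.conj_mem _ hw.2 g
    have hcg : Nat.card ((MulAut.conj g • S₁).subgroupOf C) = 2 ^ (Nat.card C).factorization 2 := by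
      rw [Nat.card_congr (Subgroup.subgroupOfEquivOfLe hg1).toEquiv, card_conjSmul, ← hcard₁,
        Nat.card_congr (Subgroup.subgroupOfEquivOfLe (inf_le_right : S₁ ≤ C)).toEquiv]
    obtain ⟨c, hc⟩ := MulAction.exists_smul_eq C P (Sylow.ofCard _ hcg)
    have h1 := congrArg (fun T : Sylow 2 C => (T : Subgroup C).map C.subtype) hc
    simp only [Sylow.coe_subgroup_smul, map_subtype_conjSmul, Sylow.coe_ofCard,
      Subgroup.map_subgroupOf_eq_of_le hg1, hPm,
      Subgroup.map_subgroupOf_eq_of_le (inf_le_right : S₁ ≤ C)] at h1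
    have h2 : (c : G)⁻¹ * g ∈ Subgroup.normalizer (S₁ : Set G) := by
      rw [mem_normalizer_iff_conjSmul, ← conjSmul_conjSmul, ← h1, conjSmul_inv_conjSmul]
    have h3 := Cfsg.Agent.Thompson.normalizer_le_normalizer_thompsonSubgroupOf 2 S₁ h2
    rw [Cfsg.Agent.Thompson.thompsonSubgroupOf_eq_of_le
      (le_inf (Cfsg.Agent.Thompson.thompsonSubgroupOf_le 2 _) hJC) inf_le_left, ← hJ] at h3
    have := mul_mem (hCJ c.2) h3
    rwa [mul_inv_cancel_left] at this

theorem normalizer_sup_pPrimeCore (hcon : Cfsg.IsPConstrained 2 G)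
    (hS4 : ¬ Cfsg.Involves (Equiv.Perm (Fin 4)) G)
    (S : Sylow 2 G) (hcl : ⁅⁅(S : Subgroup G), (S : Subgroup G)⁆, (S : Subgroup G)⁆ = ⊥) :
    Subgroup.normalizer ((Cfsg.thompsonSubgroupOf 2 (S : Subgroup G)) : Set G) ⊔ Cfsg.pPrimeCore 2 G = ⊤ := by
  have : Fact (Nat.Prime 2) := ⟨Nat.prime_two⟩
  set O := Cfsg.pPrimeCore 2 G with hOdef
  have hOn : O.Normal := Cfsg.Agent.FittingCores.pPrimeCore_normal 2
  have hOc : (Nat.card O).Coprime 2 := Cfsg.Agent.FittingCores.pPrimeCore_coprime 2
  set f := QuotientGroup.mk' O with hf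
  set J := Cfsg.thompsonSubgroupOf 2 (S : Subgroup G) with hJ
  set Sb := S.mapSurjective (f := f) (QuotientGroup.mk'_surjective O)
  have hinj : Set.InjOn f (S : Subgroup G) := by
    intro x hx y hy hxy
    have h1 : x⁻¹ * y ∈ (S : Subgroup G) ⊓ O :=
      ⟨(S : Subgroup G).mul_mem ((S : Subgroup G).inv_mem hx) hy, QuotientGroup.eq.1 hxy⟩
    obtain ⟨k, hk⟩ := S.isPGroup'.exists_card_eq
    rw [(Subgroup.disjoint_of_coprime_natCard (H := (S : Subgroup G)) (K := O)
      (by rw [hk]; exact hOc.symm.pow_left k)).eq_bot, Subgroup.mem_bot, inv_mul_eq_one] at h1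
    exact h1
  have hn := thompson_normal_aux _ (G := G ⧸ O) rfl (fun h => hS4 (SFourFree.involves_quotient O h))
    (Cfsg.Agent.PConstr.isPConstrained_iff.1 hcon) Sb (by
      change ⁅⁅(S : Subgroup G).map f, (S : Subgroup G).map f⁆, (S : Subgroup G).map f⁆ = ⊥
      rw [← Subgroup.map_commutator, ← Subgroup.map_commutator, hcl, Subgroup.map_bot])
  change (Cfsg.thompsonSubgroupOf 2 ((S : Subgroup G).map f)).Normal at hn
  rw [Cfsg.Agent.Thompson.thompsonSubgroupOf_map f hinj, ← hJ] at hn
  rw [eq_top_iff]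
  intro g _
  have hJO : J ≤ Subgroup.normalizer (O : Set G) := by rw [Subgroup.normalizer_eq_top]; exact le_top
  have hle : MulAut.conj g • J ≤ O ⊔ J := by
    intro w hw
    have h1 : w ∈ (J.map f).comap f := by
      rw [Subgroup.mem_comap]
      rw [mem_conjSmul] at hw
      have h2 := hn.conj_mem _ (Subgroup.mem_map_of_mem f hw) (f g)
      rwa [← map_inv, ← map_mul, ← map_mul, show g * (g⁻¹ * w * g) * g⁻¹ = w by group] at h2
    rwa [Subgroup.comap_map_eq, QuotientGroup.ker_mk', sup_comm] at h1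
  have hcop : (Nat.card J).Coprime (Nat.card O) := by
    obtain ⟨k, hk⟩ := (S.isPGroup'.to_le (Cfsg.Agent.Thompson.thompsonSubgroupOf_le 2 _)).exists_card_eq
    rw [hJ, hk]
    exact hOc.symm.pow_left k
  obtain ⟨k, hk, hkJ⟩ := Cfsg.Agent.SchurZ.conj_in hJO hcop
    (Or.inl (by
      haveI := (S.isPGroup'.to_le (Cfsg.Agent.Thompson.thompsonSubgroupOf_le 2 _) : IsPGroup 2 J).isNilpotent
      infer_instance)) hle (card_conjSmul g J)
  have h3 : k⁻¹ * g ∈ Subgroup.normalizer (J : Set G) := by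
    rw [mem_normalizer_iff_conjSmul, ← conjSmul_conjSmul, ← hkJ, conjSmul_inv_conjSmul]
  rw [show g = k * (k⁻¹ * g) by group]
  exact mul_mem (Subgroup.mem_sup_right hk) (Subgroup.mem_sup_left h3)

end Cfsg.Agent.SFour2
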